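import Mathlib

/-! Arithmetic of the element orders of direct products of small Ree groups. -/

set_option autoImplicit false

namespace Cfsg.Agent.RP

/-- the orders of the four maximal tori -/
def D (m : ℕ) : Fin 4 → ℕ := ![3 ^ (2 * m + 1) - 1, (3 ^ (2 * m + 1) + 1) / 2,
  3 ^ (2 * m + 1) - 3 ^ (m + 1) + 1, 3 ^ (2 * m + 1) + 3 ^ (m + 1) + 1]

def Y (m : ℕ) (t : Fin 4) : ℕ := D m t / (D m t).gcd 14

def Om (m d : ℕ) : Prop := d ∣ 6 ∨ d ∣ 9 ∨ ∃ t, d ∣ D m t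

def Ty (m : ℕ) (t : Fin 4) (s : ℕ) : Prop := s.Prime ∧ s ≠ 2 ∧ s ≠ 7 ∧ s ∣ D m t

def Big (m : ℕ) : Prop := (2 * m + 1).Prime ∧ 5 ≤ m

theorem rel (m : ℕ) : ∃ s Q : ℕ, s = 3 ^ m ∧ Q = s * s ∧ 3 ^ (2 * m + 1) = 3 * Q ∧ s % 2 = 1 ∧
    Q % 8 = 1 ∧ D m 0 + 1 = 3 * Q ∧ 2 * D m 1 = 3 * Q + 1 ∧ D m 2 + 3 * s = 3 * Q + 1 ∧
    D m 3 = 3 * Q + 3 * s + 1 := by
  have h1 : 3 ^ (2 * m + 1) = 3 * (3 ^ m * 3 ^ m) := by ring
  have h2 : (3 ^ m * 3 ^ m) % 8 = 1 := by rw [← mul_pow, Nat.pow_mod]; simp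
  have h3 : 3 ^ m ≤ 3 ^ m * 3 ^ m := Nat.le_mul_self _
  have h4 : 3 ^ m % 2 = 1 := by rw [Nat.pow_mod]; simp
  refine ⟨_, _, rfl, rfl, h1, h4, h2, ?_⟩
  simp only [D, Matrix.cons_val, pow_succ 3 m, h1]
  omega

theorem zm {d a : ℕ} : d ∣ 3 ^ a - 1 ↔ (3 : ZMod d) ^ a = 1 := by
  rw [← ZMod.natCast_eq_zero_iff, Nat.cast_sub (Nat.one_le_pow _ _ three_pos), sub_eq_zero]
  simp

theorem gp {d a b : ℕ} (h1 : d ∣ 3 ^ a - 1) (h2 : d ∣ 3 ^ b - 1) : d ∣ 3 ^ a.gcd b - 1 :=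
  Nat.pow_sub_one_gcd_pow_sub_one 3 a b ▸ Nat.dvd_gcd h1 h2

theorem dvd_two {d a b : ℕ} (ha : Odd a) (h1 : d ∣ 3 ^ a - 1) (h2 : d ∣ 3 ^ b + 1) : d ∣ 2 := by
  rw [zm] at h1
  rw [← ZMod.natCast_eq_zero_iff] at h2 ⊢
  push_cast at h2 ⊢
  have h3 : ((3 : ZMod d) ^ b) ^ a = 1 := by rw [← pow_mul, mul_comm, pow_mul, h1, one_pow]
  rw [eq_neg_of_add_eq_zero_left h2, ha.neg_one_pow] at h3
  linear_combination -h3

theorem D_dvd_cube (m : ℕ) {t : Fin 4} (h : t ≠ 0) : D m t ∣ 3 ^ (3 * (2 * m + 1)) + 1 := by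
  obtain ⟨s, Q, -, hQ, hq, -, -, -, h1, h2, h3⟩ := rel m
  have : 3 ^ (3 * (2 * m + 1)) + 1 = 2 * D m 1 * (D m 2 * D m 3) := by
    rw [mul_comm 3, pow_mul, hq, h1, h3]
    zify at h2 hQ ⊢
    rw [eq_sub_of_add_eq h2, hQ]; ring
  rw [this]
  fin_cases t
  · exact absurd rfl h
  · exact (dvd_mul_left _ _).mul_right _
  · exact (dvd_mul_right _ _).mul_left _
  · exact (dvd_mul_left _ _).mul_left _

theorem D_dvd (m : ℕ) (t : Fin 4) : D m t ∣ 3 ^ (6 * (2 * m + 1)) - 1 := by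
  by_cases h : t = 0
  · subst h
    exact Nat.pow_sub_one_dvd_pow_sub_one 3 (dvd_mul_left _ _)
  · refine (D_dvd_cube m h).trans ⟨3 ^ (3 * (2 * m + 1)) - 1, ?_⟩
    rw [← Nat.sq_sub_sq, ← pow_mul, one_pow]; congr 2; ring

theorem cop {m d : ℕ} {t u : Fin 4} (h : t ≠ u) (h1 : d ∣ D m t) (h2 : d ∣ D m u) : d ∣ 2 := by
  wlog hl : t < u generalizing t u
  · exact this h.symm h2 h1 (h.lt_or_gt.resolve_left hl)
  obtain ⟨s, Q, -, rfl, -, -, -, e0, e1, e2, e3⟩ := rel m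
  rw [← ZMod.natCast_eq_zero_iff] at h1 h2 ⊢
  replace e0 := congrArg (Nat.cast : ℕ → ZMod d) e0
  replace e1 := congrArg (Nat.cast : ℕ → ZMod d) e1
  replace e2 := congrArg (Nat.cast : ℕ → ZMod d) e2
  replace e3 := congrArg (Nat.cast : ℕ → ZMod d) e3
  push_cast at e0 e1 e2 e3 ⊢
  fin_cases t <;> fin_cases u <;> simp only [Fin.zero_eta, Fin.mk_one, Fin.reduceFinMk] at h1 h2 hl <;>
    try exact absurd hl (by decide)
  · linear_combination 2 * h2 - h1 + e0 - e1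
  · linear_combination 2 * (3 * s + 2) * (h2 - h1 + e0 - e2) + 6 * (h1 - e0)
  · linear_combination 2 * (2 - 3 * s) * (h2 - h1 + e0 - e3) + 6 * (h1 - e0)
  · linear_combination 2 * (2 * h1 - e1) + 2 * s * (h2 - 2 * h1 + e1 - e2)
  · linear_combination 2 * (2 * h1 - e1) - 2 * s * (h2 - 2 * h1 + e1 - e3)
  · linear_combination h1 + h2 - e2 - e3 - s * (h2 - h1 + e2 - e3)

theorem not_three (m : ℕ) (t : Fin 4) : ¬ 3 ∣ D m t := by
  obtain ⟨s, Q, -, -, -, -, -, e0, e1, e2, e3⟩ := rel m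
  fin_cases t <;> simp only [Fin.zero_eta, Fin.mk_one, Fin.reduceFinMk] <;> omega

theorem not_four (m : ℕ) (t : Fin 4) : ¬ 4 ∣ D m t := by
  obtain ⟨s, Q, -, -, -, h1, h2, e0, e1, e2, e3⟩ := rel m
  fin_cases t <;> simp only [Fin.zero_eta, Fin.mk_one, Fin.reduceFinMk] <;> omega

theorem not_two (m : ℕ) : ¬ 2 ∣ D m 2 := by
  obtain ⟨s, Q, -, -, -, h1, h2, e0, e1, e2, e3⟩ := rel m
  omega

theorem Om.of_dvd {m d e : ℕ} (h : Om m e) (hd : d ∣ e) : Om m d :=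
  h.imp hd.trans (Or.imp hd.trans (Exists.imp fun _ => hd.trans))

theorem Y_mul (m : ℕ) (t : Fin 4) : Y m t * (D m t).gcd 14 = D m t :=
  Nat.div_mul_cancel (Nat.gcd_dvd_left _ _)

theorem Y_dvd (m : ℕ) (t : Fin 4) : Y m t ∣ D m t := Dvd.intro _ (Y_mul m t)

namespace Big

variable {m : ℕ} (h : Big m)
include h

theorem cop' {k : ℕ} (hk : k ∈ [3, 6, 7]) : (2 * m + 1).Coprime k :=
  Nat.coprime_of_lt_prime (by rintro rfl; simp at hk) (by have := h.2; simp at hk; omega) h.1 |>.symm.symm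

theorem not_seven0 : ¬ 7 ∣ D m 0 := fun h7 => by
  have := gp h7 (show 7 ∣ 3 ^ 6 - 1 by norm_num)
  rw [h.cop' (by simp)] at this
  omega

theorem not_seven1 : ¬ 7 ∣ D m 1 := fun h7 => by
  obtain ⟨s, Q, -, -, hq, -, -, -, e1, -⟩ := rel m
  have h1 : 7 ∣ 3 ^ (2 * (2 * m + 1)) - 1 := (show 7 ∣ 3 ^ (2 * m + 1) + 1 by omega).trans
    ⟨3 ^ (2 * m + 1) - 1, by rw [← Nat.sq_sub_sq, ← pow_mul, one_pow, mul_comm]⟩
  have := gp h1 (show 7 ∣ 3 ^ (2 * 3) - 1 by norm_num)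
  rw [Nat.gcd_mul_left, h.cop' (by simp)] at this
  omega

theorem not_49 (t : Fin 4) : ¬ 7 * 7 ∣ D m t := fun h7 => by
  have := gp (h7.trans (D_dvd m t)) (show 49 ∣ 3 ^ (6 * 7) - 1 by norm_num)
  rw [Nat.gcd_mul_left, h.cop' (by simp)] at this
  omega

theorem not_13 (t : Fin 4) : ¬ 13 ∣ D m t := fun h7 => by
  by_cases h0 : t = 0
  · subst h0
    have := gp h7 (show 13 ∣ 3 ^ 3 - 1 by norm_num)
    rw [h.cop' (by simp)] at this
    omega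
  · have := dvd_two (a := 3) (by decide) (by norm_num) (h7.trans (D_dvd_cube m h0))
    omega

theorem ty {t : Fin 4} {s : ℕ} (hs : s.Prime) (hd : s ∣ Y m t) : Ty m t s := by
  have h1 := hd.trans (Y_dvd m t)
  have k : s ∣ 14 → s * s ∣ D m t := fun h2 => Y_mul m t ▸ mul_dvd_mul hd (Nat.dvd_gcd h1 h2)
  exact ⟨hs, fun e => not_four m t (by subst e; exact k (by norm_num)),
    fun e => h.not_49 t (by subst e; exact k (by norm_num)), h1⟩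

theorem relY : ∃ s Q : ℕ, Q = s * s ∧ 243 ≤ s ∧ 243 * s ≤ Q ∧ D m 3 = 3 * Q + 3 * s + 1 ∧
    2 * Y m 0 + 1 = 3 * Q ∧ 4 * Y m 1 = 3 * Q + 1 ∧
    (Y m 2 + 3 * s = 3 * Q + 1 ∨ 7 * Y m 2 + 3 * s = 3 * Q + 1) ∧
    (Y m 3 = 3 * Q + 3 * s + 1 ∨ 7 * Y m 3 = 3 * Q + 3 * s + 1) := by
  obtain ⟨s, Q, hs, hQ, -, h1, h2, e0, e1, e2, e3⟩ := rel m
  have h3 : 243 ≤ s := hs ▸ Nat.pow_le_pow_right three_pos h.2
  have k : ∀ t, (Y m t = D m t ∧ ¬ 2 ∣ D m t) ∨ Y m t * 2 = D m t ∨ Y m t * 7 = D m t ∨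
      Y m t * 14 = D m t := fun t => by
    have h4 := Y_mul m t
    have h5 : (D m t).gcd 14 ∈ Nat.divisors 14 := by simp [Nat.gcd_dvd_right]
    have h6 : 2 ∣ D m t → 2 ∣ (D m t).gcd 14 := fun h => Nat.dvd_gcd h (by norm_num)
    generalize (D m t).gcd 14 = g at h4 h5 h6
    fin_cases h5 <;> simp_all
  have := h.not_seven0
  have := h.not_seven1
  have := k 0
  have := k 1
  have := k 2
  have := k 3
  refine ⟨s, Q, hQ, h3, hQ ▸ Nat.mul_le_mul_right s h3, e3, ?_, ?_, ?_, ?_⟩ <;> omega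

theorem lt_Y (t : Fin 4) : 19 < Y m t := by
  obtain ⟨s, Q, -, h1, h2, -, e0, e1, e2, e3⟩ := h.relY
  fin_cases t <;> simp only [Fin.zero_eta, Fin.mk_one, Fin.reduceFinMk] <;> omega

theorem exists_ty (t : Fin 4) : ∃ s, Ty m t s ∧ s ∣ Y m t :=
  let ⟨s, h1, h2⟩ := Nat.exists_prime_and_dvd (show Y m t ≠ 1 by have := h.lt_Y t; omega)
  ⟨s, h.ty h1 h2, h2⟩

theorem Y_zero : Y m 0 = (3 ^ (2 * m + 1) - 1) / 2 := by
  obtain ⟨s, Q, -, -, -, h1, h2, e0, -⟩ := rel m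
  have : (D m 0).gcd 14 = 2 := by
    have h5 : (D m 0).gcd 14 ∈ Nat.divisors 14 := by simp [Nat.gcd_dvd_right]
    have h6 : 2 ∣ (D m 0).gcd 14 := Nat.dvd_gcd (by omega) (by norm_num)
    have h7 : ¬ 7 ∣ (D m 0).gcd 14 := fun h7 => h.not_seven0 (h7.trans (Nat.gcd_dvd_left _ _))
    generalize (D m 0).gcd 14 = g at h5 h6 h7
    fin_cases h5 <;> simp_all
  rw [Y, this]; rfl

theorem dvd_exp {t : Fin 4} {s n : ℕ} (hs : Ty m t s) (hd : s ∣ 3 ^ (6 * n) - 1) : 2 * m + 1 ∣ n :=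
  by_contra fun hn => by
    have h1 := gp (hs.2.2.2.trans (D_dvd m t)) hd
    rw [Nat.gcd_mul_left, (Nat.Prime.coprime_iff_not_dvd h.1).2 hn] at h1
    have h2 : s ∈ Nat.primeFactors 728 := Nat.mem_primeFactors.2 ⟨hs.1, h1, by norm_num⟩
    rw [show Nat.primeFactors 728 = {2, 7, 13} by decide +kernel] at h2
    simp only [Finset.mem_insert, Finset.mem_singleton] at h2
    rcases h2 with e | e | e
    exacts [hs.2.1 e, hs.2.2.1 e, h.not_13 t (e ▸ hs.2.2.2)]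

omit h in
theorem cross_aux {s Q x y k : ℕ} (h1 : 243 ≤ s) (h2 : 243 * s ≤ Q)
    (hx : 2 * x + 1 = 3 * Q ∨ 4 * x = 3 * Q + 1) (hy : (y + 3 * s = 3 * Q + 1 ∨
      7 * y + 3 * s = 3 * Q + 1) ∨ y = 3 * Q + 3 * s + 1 ∨ 7 * y = 3 * Q + 3 * s + 1) (h0 : 0 < k) :
    ¬ (x + 1 = 2 * (y * k) ∨ x = 2 * (y * k) + 1) ∧ ¬ (y + 1 = 2 * (x * k) ∨ y = 2 * (x * k) + 1) := by
  by_cases h5 : k < 5
  · interval_cases k <;> omega
  · have := Nat.mul_le_mul_left x (not_lt.1 h5)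
    have := Nat.mul_le_mul_left y (not_lt.1 h5)
    omega

theorem cross {a b : Fin 4} (hab : (a < 2) ≠ (b < 2)) {k : ℕ} (h0 : 0 < k)
    (e : Y m a + 1 = 2 * (Y m b * k) ∨ Y m a = 2 * (Y m b * k) + 1) : False := by
  obtain ⟨s, Q, -, h1, h2, -, e0, e1, e2, e3⟩ := h.relY
  have k := fun {x y} hx hy => cross_aux (x := x) (y := y) h1 h2 hx hy h0
  fin_cases a <;> fin_cases b <;> try exact hab (by decide)
  exacts [(k (.inl e0) (.inl e2)).1 e, (k (.inl e0) (.inr e3)).1 e, (k (.inr e1) (.inl e2)).1 e,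
    (k (.inr e1) (.inr e3)).1 e, (k (.inl e0) (.inl e2)).2 e, (k (.inr e1) (.inl e2)).2 e,
    (k (.inl e0) (.inr e3)).2 e, (k (.inr e1) (.inr e3)).2 e]

theorem psl_false {a b c : Fin 4} (ab : a ≠ b) (ac : a ≠ c) (bc : b ≠ c) {f : ℕ} (hf : 0 < f)
    (ho : Odd (Y m a)) (h1 : Y m b ∣ (Y m a ^ f - 1) / 2) (h2 : Y m c ∣ (Y m a ^ f + 1) / 2)
    (h3 : (Y m a ^ f + 1) / 2 ≤ 126 * D m 3) : False := by
  have h4 := h.lt_Y a
  obtain rfl | hf : f = 1 ∨ 2 ≤ f := by omega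
  · rw [pow_one] at h1 h2
    obtain ⟨k, hk⟩ := h1
    obtain ⟨l, hl⟩ := h2
    obtain ⟨j, hj⟩ := ho
    rcases (by decide : ∀ a b c : Fin 4, a ≠ b → a ≠ c → b ≠ c → (a < 2) ≠ (b < 2) ∨ (a < 2) ≠ (c < 2))
      a b c ab ac bc with h5 | h5
    · exact h.cross h5 (k := k) (Nat.pos_of_ne_zero (by rintro rfl; omega)) (Or.inr (by omega))
    · exact h.cross h5 (k := l) (Nat.pos_of_ne_zero (by rintro rfl; omega)) (Or.inl (by omega))
  obtain ⟨s, Q, hQ, h6, h7, e, e0, e1, e2, e3⟩ := h.relY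
  have h5 := Nat.pow_le_pow_right (n := Y m a) (by omega) hf
  have h8 : 2 * Q ≤ 7 * Y m a := by
    fin_cases a <;> simp only [Fin.zero_eta, Fin.mk_one, Fin.reduceFinMk] <;> omega
  have h9 : Y m a ^ 2 ≤ 1008 * Q := by omega
  nlinarith [Nat.mul_le_mul h8 h8]

end Big

theorem Ty.ne_three {m s : ℕ} {t : Fin 4} (h : Ty m t s) : s ≠ 3 := fun e =>
  not_three m t (e ▸ h.2.2.2)

theorem Ty.eq {m s : ℕ} {t u : Fin 4} (h : Ty m t s) (h' : s ∣ D m u) : t = u := by_contra fun e =>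
  h.2.1 ((Nat.prime_dvd_prime_iff_eq h.1 Nat.prime_two).1 (cop e h.2.2.2 h'))

theorem Ty.of_om {m m' s d : ℕ} {t : Fin 4} (hm : Big m) (h : Ty m t s) (ho : Om m' d) (hd : s ∣ d) :
    2 * m + 1 ∣ 2 * m' + 1 ∧ ∃ u, d ∣ D m' u := by
  have k := fun {p} (hp : Nat.Prime p) => (Nat.prime_dvd_prime_iff_eq h.1 hp).1
  rcases ho with ho | ho | ⟨u, ho⟩
  · exact (((Nat.Prime.dvd_mul (m := 2) (n := 3) h.1).1 (hd.trans ho)).elim
      (fun e => h.2.1 (k Nat.prime_two e)) fun e => h.ne_three (k Nat.prime_three e)).elim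
  · exact (h.ne_three (k Nat.prime_three (h.1.dvd_of_dvd_pow (n := 2) (hd.trans ho)))).elim
  · exact ⟨hm.dvd_exp h ((hd.trans ho).trans (D_dvd m' u)), u, ho⟩

variable {ι : Type*}

structure Par (m : ι → ℕ) : Prop where
  big : ∀ i, Big (m i)
  inj : Function.Injective m
  nd : ∀ i j, ¬ 2 * m i + 1 ∣ 3 ^ (6 * (2 * m j + 1)) - 1

/-- `o` divides an element order of the product -/
def SpN (m : ι → ℕ) (o : ℕ) : Prop := o ≠ 0 ∧ ∃ z : ι → ℕ, (∀ i, Om (m i) (z i)) ∧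
  ∀ p k : ℕ, p.Prime → 0 < k → p ^ k ∣ o → ∃ i, p ^ k ∣ z i

theorem Par.eq {m : ι → ℕ} (hm : Par m) {i j : ι} (h : 2 * m i + 1 ∣ 2 * m j + 1) : i = j := by
  have := (Nat.prime_dvd_prime_iff_eq (hm.big i).1 (hm.big j).1).1 h
  exact hm.inj (by omega)

namespace SpN

variable {m : ι → ℕ} {o : ℕ} (h : SpN m o)
include h

theorem of_dvd {d : ℕ} (hd : d ∣ o) : SpN m d :=
  ⟨ne_zero_of_dvd_ne_zero h.1 hd, h.2.imp fun _ hz => ⟨hz.1, fun p k h1 h2 h3 => hz.2 p k h1 h2 (h3.trans hd)⟩⟩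

theorem om {p k : ℕ} (hp : p.Prime) (hk : 0 < k) (hd : p ^ k ∣ o) : ∃ i, Om (m i) (p ^ k) :=
  let ⟨_, h1, h2⟩ := h.2
  (h2 p k hp hk hd).imp fun i => (h1 i).of_dvd

theorem not_4 : ¬ 4 ∣ o := fun hd => by
  obtain ⟨i, h1 | h1 | ⟨t, h1⟩⟩ := h.om Nat.prime_two two_pos hd
  exacts [by omega, by omega, not_four _ t h1]

theorem not_27 : ¬ 27 ∣ o := fun hd => by
  obtain ⟨i, h1 | h1 | ⟨t, h1⟩⟩ := h.om Nat.prime_three three_pos hd
  exacts [by omega, by omega, not_three _ t (Dvd.dvd.trans (by norm_num) h1)]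

variable (hm : Par m)
include hm

theorem not_exp (i : ι) : ¬ 2 * m i + 1 ∣ o := fun hd => by
  have := (hm.big i).2
  obtain ⟨j, h1 | h1 | ⟨t, h1⟩⟩ := h.om (hm.big i).1 one_pos (by rwa [pow_one]) <;> rw [pow_one] at h1
  exacts [absurd (Nat.le_of_dvd (by norm_num) h1) (by omega),
    absurd (Nat.le_of_dvd (by norm_num) h1) (by omega), hm.nd i j (h1.trans (D_dvd _ t))]

theorem slot : ∃ z : ι → ℕ, (∀ i, Om (m i) (z i)) ∧
    (∀ p k : ℕ, p.Prime → 0 < k → p ^ k ∣ o → ∃ i, p ^ k ∣ z i) ∧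
    ∀ i t s, Ty (m i) t s → s ∣ o → s ∣ z i ∧ z i ∣ D (m i) t := by
  obtain ⟨z, h1, h2⟩ := h.2
  refine ⟨z, h1, h2, fun i t s hs hd => ?_⟩
  obtain ⟨j, hj⟩ := h2 s 1 hs.1 one_pos (by rwa [pow_one])
  rw [pow_one] at hj
  obtain ⟨h3, u, h4⟩ := hs.of_om (hm.big i) (h1 j) hj
  obtain rfl := hm.eq h3
  exact ⟨hj, hs.eq (hj.trans h4) ▸ h4⟩

theorem ty_eq {i : ι} {t u : Fin 4} {s r : ℕ} (hs : Ty (m i) t s) (hr : Ty (m i) u r) (h1 : s ∣ o)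
    (h2 : r ∣ o) : t = u :=
  let ⟨_, _, _, k⟩ := h.slot hm
  hs.eq ((k i t s hs h1).1.trans (k i u r hr h2).2)

theorem all {t : Fin 4} (ht : ∀ i, ∃ s, Ty (m i) t s ∧ s ∣ o) {p : ℕ} (hp : p.Prime) (hd : p ∣ o) :
    ∃ i, p ∣ D (m i) t := by
  obtain ⟨z, -, h1, k⟩ := h.slot hm
  obtain ⟨i, hi⟩ := h1 p 1 hp one_pos (by rwa [pow_one])
  obtain ⟨s, h2, h3⟩ := ht i
  exact ⟨i, (pow_one p ▸ hi).trans (k i t s h2 h3).2⟩

theorem not_18 (j : ι) (ht : ∀ i ≠ j, ∃ s, Ty (m i) 2 s ∧ s ∣ o) : ¬ 18 ∣ o := fun hd => by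
  obtain ⟨z, h0, h1, k⟩ := h.slot hm
  have k' : ∀ i ≠ j, z i ∣ D (m i) 2 := fun i hi => let ⟨s, h2, h3⟩ := ht i hi; (k i 2 s h2 h3).2
  obtain ⟨a, ha⟩ := h1 2 1 Nat.prime_two one_pos (Dvd.dvd.trans (by norm_num) hd)
  obtain ⟨b, hb⟩ := h1 3 2 Nat.prime_three two_pos (Dvd.dvd.trans (by norm_num) hd)
  have hb' := Dvd.dvd.trans (show 3 ∣ 3 ^ 2 by norm_num) hb
  obtain rfl : a = j := by_contra fun e => not_two _ (ha.trans (k' a e))
  obtain rfl : b = a := by_contra fun e => not_three _ _ (hb'.trans (k' b e))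
  rcases h0 b with h2 | h2 | ⟨t, h2⟩
  exacts [absurd (hb.trans h2) (by norm_num), absurd (ha.trans h2) (by norm_num),
    not_three _ t (hb'.trans h2)]

theorem le (i : ι) (hn : ∀ j ≠ i, ∀ t s, Ty (m j) t s → ¬ s ∣ o) : o ≤ 126 * D (m i) 3 := by
  obtain ⟨z, h0, h1⟩ := h.2
  obtain ⟨s, Q, -, -, -, -, -, e0, e1, e2, e3⟩ := rel (m i)
  obtain ⟨s', Q', -, h6, h7, e, -⟩ := (hm.big i).relY
  have h2 : 0 < z i ∧ z i ≤ D (m i) 3 := by
    rcases h0 i with h2 | h2 | ⟨t, h2⟩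
    · exact ⟨Nat.pos_of_dvd_of_pos h2 (by norm_num), (Nat.le_of_dvd (by norm_num) h2).trans (by omega)⟩
    · exact ⟨Nat.pos_of_dvd_of_pos h2 (by norm_num), (Nat.le_of_dvd (by norm_num) h2).trans (by omega)⟩
    have h3 : 0 < D (m i) t := Nat.pos_of_ne_zero fun e => not_three _ t (e ▸ dvd_zero 3)
    refine ⟨Nat.pos_of_dvd_of_pos h2 h3, (Nat.le_of_dvd h3 h2).trans ?_⟩
    fin_cases t <;> simp only [Fin.zero_eta, Fin.mk_one, Fin.reduceFinMk] <;> omega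
  refine (Nat.le_of_dvd (by omega) ((Nat.dvd_iff_prime_pow_dvd_dvd _ _).2 fun p k hp hd => ?_)).trans
    (Nat.mul_le_mul_left 126 h2.2)
  rcases k.eq_zero_or_pos with rfl | hk
  · simp
  obtain ⟨j, hj⟩ := h1 p k hp hk hd
  by_cases e : j = i
  · exact (e ▸ hj).mul_left _
  refine Dvd.dvd.mul_right ?_ _
  rcases h0 j with h3 | h3 | ⟨t, h3⟩
  exacts [(hj.trans h3).trans (by norm_num), (hj.trans h3).trans (by norm_num), by
    have h4 := hj.trans h3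
    have h5 : p = 2 ∨ p = 7 := by_contra fun h5 => hn j e t p ⟨hp, fun e => h5 (Or.inl e),
      fun e => h5 (Or.inr e), (dvd_pow_self p hk.ne').trans h4⟩ ((dvd_pow_self p hk.ne').trans hd)
    obtain rfl : k = 1 := le_antisymm (not_lt.1 fun h8 => h5.elim
      (fun e => not_four _ t (by subst e; exact (pow_dvd_pow 2 h8).trans h4))
      fun e => (hm.big j).not_49 t (by subst e; exact (pow_dvd_pow 7 h8).trans h4)) hk
    rcases h5 with rfl | rfl <;> norm_num]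

end SpN

theorem exp_eq {m : ι → ℕ} (hm : Par m) {i : ι} {m' : ℕ} (h : SpN m (D m' 0))
    (hd : 2 * m i + 1 ∣ 2 * m' + 1) : m' = m i := by
  obtain ⟨c, hc⟩ := hd
  by_contra hne
  obtain ⟨l, hl, c, rfl⟩ := Nat.exists_prime_and_dvd (show c ≠ 1 by rintro rfl; omega)
  set n := 2 * m i + 1 with hn
  have ho : Odd (n * l) := (Nat.odd_mul.1 (show Odd (n * l * c) from ⟨m', by rw [mul_assoc, ← hc]⟩)).1
  obtain ⟨z, h0, h1⟩ := (h.of_dvd (Nat.pow_sub_one_dvd_pow_sub_one 3 (show n * l ∣ 2 * m' + 1 from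
    ⟨c, by rw [hc, mul_assoc]⟩))).2
  have h2 : ∀ a, 0 < a → 2 ∣ 3 ^ a - 1 ∧ 0 < 3 ^ a - 1 := fun a ha =>
    ⟨Nat.pow_sub_one_dvd_pow_sub_one 3 (one_dvd a), Nat.sub_pos_of_lt (Nat.one_lt_pow ha.ne' (by norm_num))⟩
  have h3 := h2 n (by omega)
  have h4 := Nat.le_of_dvd (Nat.mul_pos h3.2 (h2 l hl.pos).2) ((Nat.dvd_iff_prime_pow_dvd_dvd
    ((3 ^ n - 1) * (3 ^ l - 1)) (3 ^ (n * l) - 1)).2 fun p k hp hd => by
      rcases k.eq_zero_or_pos with rfl | hk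
      · simp
      have h3' : (p ^ k).Coprime 3 := Nat.Coprime.coprime_dvd_left hd
        ((Nat.Prime.coprime_iff_not_dvd Nat.prime_three).2 (by
          have := dvd_pow_self 3 (mul_pos (show 0 < n by omega) hl.pos).ne'
          have := Nat.one_le_pow (n * l) 3 three_pos
          omega)).symm
      obtain ⟨j, hj⟩ := h1 p k hp hk hd
      rcases h0 j with h5 | h5 | ⟨t, h5⟩
      · exact ((h3'.dvd_of_dvd_mul_right (m := 2) (hj.trans h5)).trans h3.1).mul_right _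
      · rw [Nat.Coprime.eq_one_of_dvd (h3'.pow_right 2) (hj.trans h5)]; simp
      by_cases h6 : t = 0
      swap
      · exact ((dvd_two ho hd ((hj.trans h5).trans (D_dvd_cube _ h6))).trans h3.1).mul_right _
      subst h6
      have h7 := gp hd (hj.trans h5)
      rcases (Nat.dvd_prime (hm.big j).1).1 (Nat.gcd_dvd_right (n * l) _) with e | e
      · rw [e] at h7
        exact (h7.trans h3.1).mul_right _
      rcases ((hm.big j).1.dvd_mul).1 (e ▸ Nat.gcd_dvd_left (n * l) _) with h8 | h8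
      · exact ((hj.trans h5).trans (Nat.pow_sub_one_dvd_pow_sub_one 3 h8)).mul_right _
      · exact ((hj.trans h5).trans (Nat.pow_sub_one_dvd_pow_sub_one 3 h8)).mul_left _)
  have h5 : 3 ^ (n + l + 1) ≤ 3 ^ (n * l) := Nat.pow_le_pow_right three_pos (by
    have := (hm.big i).2
    nlinarith [hl.two_le])
  have h6 : (3 ^ n - 1) * (3 ^ l - 1) ≤ 3 ^ (n + l) :=
    pow_add 3 n l ▸ Nat.mul_le_mul (Nat.sub_le _ _) (Nat.sub_le _ _)
  have := Nat.one_le_pow (n + l) 3 three_pos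
  omega

end Cfsg.Agent.RP
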